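import Cfsg.Agent.H613.KKL.Defs
import Cfsg.Agent.S0953
import Cfsg.Agent.S0908
import Cfsg.Agent.S0914
import Cfsg.Agent.S2113
import Cfsg.Agent.S2086
import Cfsg.Agent.S2039
import Cfsg.Agent.S1157
import Cfsg.Agent.S4765
import Cfsg.Agent.H191.EB515.OddRee
import Cfsg.Agent.H808.EB515.JOne
import Cfsg.Agent.H41.EB515.Rows
import Cfsg.Agent.H417.DegQuasi
import Cfsg.Agent.H413.JOneLocal
import Cfsg.Prelude.Def_CaseTheorems

/-!
# S4546: the rows `PSL₂(8)`, `J₁`, Ree (helper611)

* `hz_of_odd`: Sylow 2-subgroups of order 8, self-centralizing, and odd degrees in the principal 2-block: `HZ`;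
* `F_L28`, `F_J1`, `F_Ree`.
-/

set_option autoImplicit false
set_option linter.unusedSectionVars false
set_option linter.style.haveILetI false

namespace Cfsg.Agent.H611.KKL

open Cfsg Cfsg.Agent.H613.KKL

universe u

section

variable {S : Type u} [Group S] [Finite S]

/-- odd degree: height zero -/
theorem height_of_odd {B : Set (IrrCharacter S)} {χ : IrrCharacter S} (h : Odd (charDegree (χ : S → ℂ))) :
    blockHeight 2 B (χ : S → ℂ) = 0 := by
  unfold blockHeight
  rw [Nat.factorization_eq_zero_of_not_dvd (by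
    rw [← even_iff_two_dvd, Nat.not_even_iff_odd]
    exact h), Nat.zero_sub]

/-- a defect group of the order of a Sylow subgroup -/
theorem exists_sylow_of_card {D : Subgroup S} (hD : Nat.card D = 8) (h8 : ∀ P : Sylow 2 S, Nat.card P = 8) :
    ∃ P : Sylow 2 S, (P : Subgroup S) = D := by
  haveI : Fact (Nat.Prime 2) := ⟨Nat.prime_two⟩
  have h1 : IsPGroup 2 D := IsPGroup.of_card (n := 3) (by rw [hD]; norm_num)
  obtain ⟨P, hP⟩ := h1.exists_le_sylow
  refine ⟨P, ?_⟩
  symm
  apply Subgroup.eq_of_le_of_card_ge hP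
  rw [hD]
  exact (h8 P).le

theorem exists_defectGroup {M : Ideal AlgInt} (hM : IsPModular 2 M) {B : Set (IrrCharacter S)}
    (hB : IsPBlock M B) : ∃ D : Subgroup S, IsDefectGroup 2 M B D := by
  obtain ⟨g, hg⟩ := Cfsg.Agent.S0906.result 2 M hM B hB
  obtain ⟨P⟩ : Nonempty (Sylow 2 (Subgroup.centralizer ({g} : Set S))) := inferInstance
  exact ⟨_, g, hg, P, rfl⟩

theorem isPBlock_principal {M : Ideal AlgInt} : IsPBlock M (principalBlock M S) :=
  ⟨⟨_, Cfsg.Agent.Characters.Core.isIrr_one⟩, rfl⟩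

theorem one_mem_principal {M : Ideal AlgInt} (hM : IsPModular 2 M) :
    (⟨_, Cfsg.Agent.Characters.Core.isIrr_one⟩ : IrrCharacter S) ∈ principalBlock M S := fun g => by
  change Cfsg.MemLocalIdeal M (centralChar (fun _ : S => (1 : ℂ)) g - centralChar (fun _ : S => (1 : ℂ)) g)
  haveI := Cfsg.Agent.Blocks.Local.isPrime_of_isPModular hM
  rw [sub_self]
  exact Cfsg.Agent.Blocks.Local.memLocalIdeal_zero

/-- the defect of the principal block -/
theorem card_defect_principal {M : Ideal AlgInt} (hM : IsPModular 2 M) {D : Subgroup S}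
    (hD : IsDefectGroup 2 M (principalBlock M S) D) : Nat.card D = 2 ^ (Nat.card S).factorization 2 := by
  rw [Cfsg.Agent.S0908.result 2 M hM _ isPBlock_principal D hD]
  congr 1
  unfold blockDefect
  have h1 : sInf ((fun χ : IrrCharacter S => (charDegree (χ : S → ℂ)).factorization 2) ''
      principalBlock M S) = 0 := by
    apply Nat.sInf_eq_zero.2
    left
    refine ⟨_, one_mem_principal hM, ?_⟩
    show (charDegree (fun _ : S => (1 : ℂ))).factorization 2 = 0
    have h2 : charDegree (fun _ : S => (1 : ℂ)) = 1 := by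
      unfold charDegree
      rw [Complex.one_re, Nat.floor_one]
    rw [h2, Nat.factorization_one]
    rfl
  rw [h1, Nat.sub_zero]

/-- **The blocks of full defect** when the Sylow 2-subgroup is self-centralizing. -/
theorem eq_principal {M : Ideal AlgInt} (hM : IsPModular 2 M) (P : Sylow 2 S)
    (hC : Subgroup.centralizer ((P : Subgroup S) : Set S) ≤ P) {B : Set (IrrCharacter S)} (hB : IsPBlock M B)
    (hD : IsDefectGroup 2 M B (P : Subgroup S)) : B = principalBlock M S := by
  haveI : Fact (Nat.Prime 2) := ⟨Nat.prime_two⟩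
  have h1 := Cfsg.Agent.S0953.result 2 M hM P
  -- the principal block has the defect group `P`
  have h2 : IsDefectGroup 2 M (principalBlock M S) (P : Subgroup S) := by
    obtain ⟨E, hE⟩ := exists_defectGroup hM (B := principalBlock M S) isPBlock_principal
    have h3 := card_defect_principal hM hE
    have h4 : IsPGroup 2 E := IsPGroup.of_card h3
    obtain ⟨Q, hQ⟩ := h4.exists_le_sylow
    have h5 : E = Q := by
      apply Subgroup.eq_of_le_of_card_ge hQ
      rw [h3]
      exact Q.card_eq_multiplicity.le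
    obtain ⟨g, hg⟩ := MulAction.exists_smul_eq S Q P
    have h6 := Cfsg.Agent.Blocks.Basic.isDefectGroup_conj hE g
    have h7 : (P : Subgroup S) = E.map (MulAut.conj g).toMonoidHom := by
      rw [← hg, h5]
      ext x
      rw [Sylow.coe_subgroup_smul]
      simp only [Subgroup.mem_map, Subgroup.mem_smul_pointwise_iff_exists]
      constructor
      · rintro ⟨v, hv, rfl⟩
        exact ⟨v, hv, rfl⟩
      · rintro ⟨v, hv, rfl⟩
        exact ⟨v, hv, rfl⟩
    rw [h7]
    exact h6
  -- at most one class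
  have h8 : Subsingleton {C : ConjClasses (Subgroup.normalizer ((P : Subgroup S) : Set S)) //
      ∀ n : Subgroup.normalizer ((P : Subgroup S) : Set S), ConjClasses.mk n = C →
        ¬ 2 ∣ orderOf n ∧ (n : S) ∈ Subgroup.centralizer ((P : Subgroup S) : Set S)} := by
    refine ⟨?_⟩
    rintro ⟨C, hC1⟩ ⟨C', hC2⟩
    have key : ∀ n : Subgroup.normalizer ((P : Subgroup S) : Set S), ¬ 2 ∣ orderOf n →
        (n : S) ∈ Subgroup.centralizer ((P : Subgroup S) : Set S) → n = 1 := by
      intro n hn1 hn2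
      obtain ⟨k, hk⟩ := (IsPGroup.iff_orderOf.1 P.isPGroup') ⟨(n : S), hC hn2⟩
      have h9 : orderOf n = 2 ^ k := by
        rw [← Subgroup.orderOf_coe n, ← hk, ← Subgroup.orderOf_coe]
      rcases Nat.eq_zero_or_pos k with rfl | hk0
      · rw [pow_zero] at h9
        exact orderOf_eq_one_iff.1 h9
      · exact absurd (by rw [h9]; exact dvd_pow_self 2 hk0.ne') hn1
    obtain ⟨n, rfl⟩ := ConjClasses.exists_rep C
    obtain ⟨n', rfl⟩ := ConjClasses.exists_rep C'
    obtain ⟨a1, a2⟩ := hC1 n rfl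
    obtain ⟨b1, b2⟩ := hC2 n' rfl
    apply Subtype.ext
    show ConjClasses.mk n = ConjClasses.mk n'
    rw [key n a1 a2, key n' b1 b2]
  have h9 : Nat.card {B : Set (IrrCharacter S) // IsPBlock M B ∧ IsDefectGroup 2 M B (P : Subgroup S)} ≤ 1 := by
    rw [h1]
    exact Finite.card_le_one_iff_subsingleton.2 h8
  haveI : Finite {B : Set (IrrCharacter S) // IsPBlock M B ∧ IsDefectGroup 2 M B (P : Subgroup S)} := by
    haveI : Finite (IrrCharacter S) := Cfsg.Agent.Characters.Core.finite_irr
    infer_instance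
  have h10 := Finite.card_le_one_iff_subsingleton.1 h9
  exact congrArg Subtype.val (Subsingleton.elim
    (⟨B, hB, hD⟩ : {B : Set (IrrCharacter S) // IsPBlock M B ∧ IsDefectGroup 2 M B (P : Subgroup S)})
    ⟨principalBlock M S, isPBlock_principal, h2⟩)

/-- no elements of odd prime order in the centralizer of a Sylow 2-subgroup -/
theorem centralizer_le (P : Sylow 2 S)
    (h : ∀ w ∈ Subgroup.centralizer ((P : Subgroup S) : Set S), (orderOf w).Prime → orderOf w = 2) :
    Subgroup.centralizer ((P : Subgroup S) : Set S) ≤ P := by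
  haveI : Fact (Nat.Prime 2) := ⟨Nat.prime_two⟩
  intro x hx
  have h1 : ∃ k : ℕ, orderOf x = 2 ^ k := by
    refine ⟨_, Nat.eq_prime_pow_of_unique_prime_dvd (orderOf_pos x).ne' ?_⟩
    intro r hr hrx
    have h2 : orderOf (x ^ (orderOf x / r)) = r := by
      rw [orderOf_pow_orderOf_div (orderOf_pos x).ne' hrx]
    have h3 := h (x ^ (orderOf x / r)) (Subgroup.pow_mem _ hx _) (by rw [h2]; exact hr)
    rwa [h2] at h3
  obtain ⟨k, hk⟩ := h1
  have h4 : IsPGroup 2 (Subgroup.zpowers x) := IsPGroup.of_card (n := k) (by rw [Nat.card_zpowers, hk])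
  have h5 : Subgroup.zpowers x ≤ Subgroup.normalizer ((P : Subgroup S) : Set S) := by
    rw [Subgroup.zpowers_le]
    exact Subgroup.centralizer_le_normalizer _ hx
  have h6 := h4.to_sup_of_normal_right' P.isPGroup' h5
  have h7 := P.is_maximal' h6 le_sup_right
  have h8 : x ∈ Subgroup.zpowers x ⊔ (P : Subgroup S) :=
    (le_sup_left : Subgroup.zpowers x ≤ _) (Subgroup.mem_zpowers x)
  rw [h7] at h8
  exact h8

/-- **The criterion.** -/
theorem hz_of_odd (h8 : ∀ P : Sylow 2 S, Nat.card P = 8)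
    (hC : ∀ P : Sylow 2 S, Subgroup.centralizer ((P : Subgroup S) : Set S) ≤ P)
    (hodd : ∀ M : Ideal AlgInt, IsPModular 2 M → ∀ χ ∈ principalBlock M S, Odd (charDegree (χ : S → ℂ))) :
    HZ S := by
  intro M hM B hB D hD hE χ hχ
  obtain ⟨P, hP⟩ := exists_sylow_of_card hE.card h8
  subst hP
  have h1 := eq_principal hM P (hC P) hB hD
  subst h1
  exact height_of_odd (hodd M hM χ hχ)

end

section

variable {K : Type u} [Group K] [Finite K]

theorem commutator_eq_top (hK : IsQuasisimple K) : commutator K = ⊤ := hK.1.commutator_eq_top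

/-- **Ree groups.** -/
theorem F_Ree (hK : IsQuasisimple K) (_hZ : Odd (Nat.card ↥(Subgroup.center K)))
    (h : Lie.IsoRee (K ⧸ Subgroup.center K)) : HZ K := by
  haveI : Fact (Nat.Prime 2) := ⟨Nat.prime_two⟩
  obtain ⟨F, i1, i2, m, hm, hF, ⟨e⟩⟩ := h
  obtain ⟨f⟩ := Cfsg.Agent.H417.DegQuasi.equiv_of_multiplier (Cfsg.Agent.S2113.result hm hF)
    (commutator_eq_top hK) e
  haveI hfin : Finite ↥(Cfsg.Lie.twistedG2 F (3 ^ m)) := Finite.of_equiv _ f.toEquiv
  apply hz_of_odd
  · intro P
    obtain ⟨a, haH, ha1, ha2⟩ := Cfsg.Agent.S1157.exists_involution hF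
    obtain ⟨-, hS⟩ := Cfsg.Agent.S1152.result hF a haH ha1 ha2
    obtain ⟨R⟩ : Nonempty (Sylow 2 ↥(Cfsg.Lie.twistedG2 F (3 ^ m))) := inferInstance
    have h8 : Nat.card P = Nat.card R := by
      rw [P.card_eq_multiplicity, R.card_eq_multiplicity, Nat.card_congr f.toEquiv]
    rw [h8]
    exact (hS R).1
  · intro P x hx
    have h1 : Nat.card ((P : Subgroup K).map f.toMonoidHom) =
        2 ^ (Nat.card ↥(Cfsg.Lie.twistedG2 F (3 ^ m))).factorization 2 := by
      rw [← Nat.card_congr ((P : Subgroup K).equivMapOfInjective f.toMonoidHom f.injective).toEquiv,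
        ← Nat.card_congr f.toEquiv]
      exact P.card_eq_multiplicity
    have h3 : ((Sylow.ofCard _ h1 : Sylow 2 _) : Subgroup ↥(Cfsg.Lie.twistedG2 F (3 ^ m))) =
        (P : Subgroup K).map f.toMonoidHom := rfl
    have h2 := (Cfsg.Agent.S1157.result hm hF (Sylow.ofCard _ h1)).1
    rw [h3] at h2
    have h4 : f x ∈ (P : Subgroup K).map f.toMonoidHom := by
      rw [← h2, Subgroup.mem_centralizer_iff]
      rintro _ ⟨y, hy, rfl⟩
      show f y * f x = f x * f y
      rw [← map_mul, ← map_mul, Subgroup.mem_centralizer_iff.1 hx y hy]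
    obtain ⟨y, hy, hxy⟩ := h4
    rwa [← f.injective hxy]
  · intro M hM χ hχ
    exact Cfsg.Agent.H191.EB515.odd_of_isoRee ⟨F, i1, i2, m, hm, hF, ⟨f⟩⟩ hM χ hχ

/-- **The first Janko group.** -/
theorem F_J1 (hK : IsQuasisimple K) (_hZ : Odd (Nat.card ↥(Subgroup.center K)))
    (h : Spor.IsoJ1 (K ⧸ Subgroup.center K)) : HZ K := by
  haveI : Fact (Nat.Prime 2) := ⟨Nat.prime_two⟩
  obtain ⟨e⟩ := h
  obtain ⟨f⟩ := Cfsg.Agent.H417.DegQuasi.equiv_of_multiplier Cfsg.Agent.S2039.result
    (commutator_eq_top hK) e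
  have hc : Nat.card K = 175560 := by
    rw [Nat.card_congr f.toEquiv]
    exact Cfsg.Agent.H413.JOneLocal.card_J1
  have h8 : ∀ P : Sylow 2 K, Nat.card P = 8 := by
    intro P
    rw [P.card_eq_multiplicity, hc]
    have h1 : (175560 : ℕ).factorization 2 = 3 := by
      have h2 : (175560 : ℕ) = 2 ^ 3 * 21945 := by norm_num
      rw [h2, Nat.factorization_mul (by norm_num) (by norm_num), Finsupp.add_apply,
        Nat.Prime.factorization_pow Nat.prime_two, Finsupp.single_eq_same,
        Nat.factorization_eq_zero_of_not_dvd (by norm_num)]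
    rw [h1]
    norm_num
  apply hz_of_odd h8
  · intro P
    apply centralizer_le
    intro w hw hp
    by_contra h2
    -- an involution in `P`
    obtain ⟨u, hu⟩ := exists_prime_orderOf_dvd_card' (G := P) 2 (by rw [h8 P]; norm_num)
    have hu2 : orderOf (f (u : K)) = 2 := by
      rw [MulEquiv.orderOf_eq, Subgroup.orderOf_coe, hu]
    have hwo : orderOf (f w) = orderOf w := MulEquiv.orderOf_eq f w
    have h3 : orderOf w ∣ 120 := by
      rw [← Cfsg.Agent.H413.JOneLocal.card_cent hu2, ← hwo]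
      have h4 : f w ∈ Subgroup.centralizer ({f (u : K)} : Set Spor.J1) := by
        rw [Subgroup.mem_centralizer_singleton_iff, ← map_mul, ← map_mul,
          Subgroup.mem_centralizer_iff.1 hw u u.2]
      have h5 := orderOf_dvd_natCard (⟨f w, h4⟩ : Subgroup.centralizer ({f (u : K)} : Set Spor.J1))
      rwa [← Subgroup.orderOf_coe] at h5
    have h4 : orderOf w = 3 ∨ orderOf w = 5 := by
      have h5 : orderOf w ∣ 2 ^ 3 * (3 * 5) := by
        rw [show (2 : ℕ) ^ 3 * (3 * 5) = 120 by norm_num]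
        exact h3
      rcases (Nat.Prime.dvd_mul hp).1 h5 with h6 | h6
      · exact absurd ((Nat.prime_dvd_prime_iff_eq hp Nat.prime_two).1 (hp.dvd_of_dvd_pow h6)) h2
      · rcases (Nat.Prime.dvd_mul hp).1 h6 with h7 | h7
        · exact Or.inl ((Nat.prime_dvd_prime_iff_eq hp Nat.prime_three).1 h7)
        · exact Or.inr ((Nat.prime_dvd_prime_iff_eq hp Nat.prime_five).1 h7)
    have h5 : Nat.card (Subgroup.centralizer ({f w} : Set Spor.J1)) = 30 := by
      rcases h4 with h4 | h4
      · exact Cfsg.Agent.H413.JOneLocal.isLocal.cent3 _ (by rw [hwo, h4])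
      · exact Cfsg.Agent.H413.JOneLocal.isLocal.cent5 _ (by rw [hwo, h4])
    have h6 : (P : Subgroup K).map f.toMonoidHom ≤ Subgroup.centralizer ({f w} : Set Spor.J1) := by
      rintro _ ⟨y, hy, rfl⟩
      rw [Subgroup.mem_centralizer_singleton_iff]
      show f y * f w = f w * f y
      rw [← map_mul, ← map_mul, Subgroup.mem_centralizer_iff.1 hw y hy]
    have h7 := Subgroup.card_dvd_of_le h6
    rw [h5, ← Nat.card_congr ((P : Subgroup K).equivMapOfInjective f.toMonoidHom f.injective).toEquiv,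
      show Nat.card (P : Subgroup K) = 8 from h8 P] at h7
    omega
  · intro M hM χ hχ
    exact Cfsg.Agent.H808.EB515.odd_of_isoJ1 ⟨f⟩ hM χ hχ

/-- **`PSL₂(8)`.** -/
theorem F_L28 (hK : IsQuasisimple K) (_hZ : Odd (Nat.card ↥(Subgroup.center K)))
    (h : Nonempty (K ⧸ Subgroup.center K ≃* Matrix.ProjectiveSpecialLinearGroup (Fin 2) (GaloisField 2 3))) :
    HZ K := by
  haveI : Fact (Nat.Prime 2) := ⟨Nat.prime_two⟩
  obtain ⟨e⟩ := h
  letI := Fintype.ofFinite (GaloisField 2 3)
  have hF : Fintype.card (GaloisField 2 3) = 8 := by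
    rw [← Nat.card_eq_fintype_card, GaloisField.card 2 3 (by norm_num)]
    norm_num
  have hm := Cfsg.Agent.S2086.result hF 2 le_rfl (by norm_num) (by simp)
  have hg : Nat.gcd 2 (8 - 1) = 1 := by norm_num
  rw [hg] at hm
  obtain ⟨f⟩ := Cfsg.Agent.H417.DegQuasi.equiv_of_multiplier hm (commutator_eq_top hK) e
  let π : Matrix.SpecialLinearGroup (Fin 2) (GaloisField 2 3) →* K :=
    f.symm.toMonoidHom.comp (QuotientGroup.mk' (Subgroup.center _))
  have hπ : Function.Surjective π := f.symm.surjective.comp (QuotientGroup.mk'_surjective _)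
  have hcard : Nat.card K ∣ 504 := by
    have h1 := Subgroup.card_dvd_of_surjective π hπ
    rw [Cfsg.Agent.S0276.card_sl_two hF] at h1
    norm_num at h1
    exact h1
  intro M hM B hB D hD hE χ hχ
  haveI := Cfsg.Agent.Blocks.Local.isPrime_of_isPModular hM
  by_cases hodd : Odd (charDegree (χ : K → ℂ))
  · exact height_of_odd hodd
  exfalso
  rw [Nat.not_odd_iff_even, even_iff_two_dvd] at hodd
  have h3 : IsIrrCharacter (Matrix.SpecialLinearGroup (Fin 2) (GaloisField 2 3)) ((χ : K → ℂ) ∘ π) :=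
    Cfsg.Agent.Characters.Core.isIrr_comp π hπ χ.2
  have h4 : charDegree ((χ : K → ℂ) ∘ π) = charDegree (χ : K → ℂ) := by
    unfold charDegree
    rw [Function.comp_apply, map_one]
  have h5 := Cfsg.Agent.S4765.degree_of_dvd (p := 2) h3 (by rw [h4]; exact hodd)
  have h6 : charDegree (χ : K → ℂ) = 8 := by
    rw [← h4]
    unfold charDegree
    rw [h5, hF]
    norm_num
  have h8 : 8 ∣ Nat.card K := by
    rw [← hE.card]
    exact Subgroup.card_subgroup_dvd_card D
  obtain ⟨m, hm⟩ := h8
  have h9 : ¬ 2 ∣ m := by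
    intro hc
    obtain ⟨j, rfl⟩ := hc
    rw [hm] at hcard
    have h10 : 8 * 2 ∣ 504 := (Dvd.intro j (by ring)).trans hcard
    norm_num at h10
  have h10 : ¬ 2 ∣ Nat.card K / charDegree (χ : K → ℂ) := by
    rw [h6, hm, Nat.mul_div_cancel_left _ (by norm_num)]
    exact h9
  have h11 := (Cfsg.Agent.S0914.result 2 M hM χ).1 h10
  have h12 : B = {χ} := by
    rw [← h11]
    exact Cfsg.Agent.Blocks.Basic.isPBlock_eq_blockOf hB hχ
  have h13 := Cfsg.Agent.S0908.result 2 M hM B hB D hD
  have h14 : blockDefect 2 B = 0 := by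
    unfold blockDefect
    rw [h12, Set.image_singleton, csInf_singleton]
    show (Nat.card K).factorization 2 - (charDegree (χ : K → ℂ)).factorization 2 = 0
    rw [h6, hm]
    have h15 : m ≠ 0 := by
      rintro rfl
      exact h9 (dvd_zero 2)
    rw [Nat.factorization_mul (by norm_num) h15, Finsupp.add_apply, Nat.factorization_eq_zero_of_not_dvd h9]
    omega
  rw [h14, hE.card] at h13
  norm_num at h13

end

end Cfsg.Agent.H611.KKL
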