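import Mathlib
import Cfsg.Agent.H850.KKL.Loc
import Cfsg.Agent.H617.AbelRank
import Cfsg.Agent.H608.KKL.C1
import Cfsg.Agent.H644.SmallMin

/-!
# S4546: 2-blocks with defect group `2^3` and inertial index divisible by three: the local data

* `exists_loc`: the local data `Loc` at the involution `u` fixed by a 3-element of the inertial quotient.
-/

set_option autoImplicit false
set_option linter.unusedSectionVars false

open Cfsg

namespace Cfsg.Agent.H611.KKL.LocAux

open Cfsg.Agent.H613.KKL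

section grp

variable {G : Type*} [Group G] [Finite G] {D S : Subgroup G}

theorem card_mul_relIndex {H K : Subgroup G} (h : H ≤ K) :
    Nat.card H * H.relIndex K = Nat.card K := by
  have h1 := (H.subgroupOf K).card_mul_index
  rwa [Nat.card_congr (Subgroup.subgroupOfEquivOfLe h).toEquiv] at h1

theorem normal_subgroupOf (hS : S ≤ Subgroup.normalizer (D : Set G)) :
    ((Subgroup.centralizer (D : Set G)).subgroupOf S).Normal := by
  refine ⟨fun n hn g => ?_⟩
  rw [Subgroup.mem_subgroupOf, Subgroup.mem_centralizer_iff] at hn ⊢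
  intro d hd
  have hg := (Subgroup.mem_normalizer_iff'' .. |>.1 (hS g.2) d).1 hd
  have h1 := hn _ hg
  push_cast
  calc d * ((g : G) * n * (g : G)⁻¹) = g * (((g : G)⁻¹ * d * g) * n) * (g : G)⁻¹ := by group
    _ = g * (n * ((g : G)⁻¹ * d * g)) * (g : G)⁻¹ := by rw [h1]
    _ = (g : G) * n * (g : G)⁻¹ * d := by group

/-- the square of `x` is in the centralizer, the index is odd. -/
theorem mem_of_sq (hS : S ≤ Subgroup.normalizer (D : Set G))
    (hodd : ¬ 2 ∣ (Subgroup.centralizer (D : Set G)).relIndex S) {x : G} (hx : x ∈ S)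
    (h2 : x * x ∈ Subgroup.centralizer (D : Set G)) : x ∈ Subgroup.centralizer (D : Set G) := by
  have hn := normal_subgroupOf hS
  set N := (Subgroup.centralizer (D : Set G)).subgroupOf S with hN
  have h1 : ((⟨x, hx⟩ : S) : S ⧸ N) ^ 2 = 1 := by
    rw [← QuotientGroup.mk_pow, QuotientGroup.eq_one_iff, hN, Subgroup.mem_subgroupOf, pow_two]
    exact h2
  have h3 : orderOf ((⟨x, hx⟩ : S) : S ⧸ N) ∣ 2 := orderOf_dvd_of_pow_eq_one h1
  have h4 : orderOf ((⟨x, hx⟩ : S) : S ⧸ N) ∣ Nat.card (S ⧸ N) := orderOf_dvd_natCard _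
  rcases (Nat.dvd_prime Nat.prime_two).1 h3 with h5 | h5
  · rw [orderOf_eq_one_iff, QuotientGroup.eq_one_iff, hN, Subgroup.mem_subgroupOf] at h5
    exact h5
  · rw [h5] at h4
    exact absurd h4 hodd

/-- An element fixing two involutions. -/
theorem mem_of_two (h8 : E8 D) (hS : S ≤ Subgroup.normalizer (D : Set G))
    (hodd : ¬ 2 ∣ (Subgroup.centralizer (D : Set G)).relIndex S) {x : G} (hx : x ∈ S)
    {u v : G} (hu : u ∈ D) (hu1 : u ≠ 1) (hv : v ∈ D) (hv1 : v ≠ 1) (huv : v ≠ u)
    (hxu : x * u = u * x) (hxv : x * v = v * x) : x ∈ Subgroup.centralizer (D : Set G) := by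
  have hcx : ∀ y, y ∈ Subgroup.centralizer ({x} : Set G) ↔ y * x = x * y := fun y =>
    Subgroup.mem_centralizer_singleton_iff
  set F : Subgroup G := D ⊓ Subgroup.centralizer ({x} : Set G) with hF
  have hFD : F ≤ D := inf_le_left
  have hc := card_mul_relIndex hFD
  rw [h8.card] at hc
  have hcard : 3 ≤ Nat.card F := by
    classical
    have h1 : ({1, u, v} : Finset G).card = 3 := by
      rw [Finset.card_insert_of_notMem, Finset.card_pair (Ne.symm huv)]
      simp only [Finset.mem_insert, Finset.mem_singleton, not_or]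
      exact ⟨Ne.symm hu1, Ne.symm hv1⟩
    have h2 : (({1, u, v} : Finset G) : Set G) ⊆ (F : Set G) := by
      intro y hy
      simp only [Finset.coe_insert, Finset.coe_singleton, Set.mem_insert_iff, Set.mem_singleton_iff] at hy
      rcases hy with rfl | rfl | rfl
      · exact F.one_mem
      · exact ⟨hu, (hcx _).2 hxu.symm⟩
      · exact ⟨hv, (hcx _).2 hxv.symm⟩
    have h3 := Set.ncard_le_ncard h2 (Set.toFinite _)
    rw [Set.ncard_coe_finset, h1] at h3
    exact h3
  -- the index is one or two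
  have hidx : F.relIndex D = 1 ∨ F.relIndex D = 2 := by
    have h1 : F.relIndex D ≤ 2 := by
      by_contra hcon
      push Not at hcon
      have : 3 * 3 ≤ Nat.card F * F.relIndex D := Nat.mul_le_mul hcard hcon
      omega
    have h2 : F.relIndex D ≠ 0 := by
      intro h
      rw [h] at hc
      omega
    omega
  rcases hidx with h1 | h1
  · rw [Subgroup.relIndex_eq_one] at h1
    rw [Subgroup.mem_centralizer_iff]
    intro d hd
    exact (hcx d).1 (h1 hd).2
  · refine mem_of_sq hS hodd hx ?_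
    rw [Subgroup.mem_centralizer_iff]
    intro d hd
    have hconj : ∀ d ∈ D, x * d * x⁻¹ ∈ D := fun d hd =>
      (Subgroup.mem_normalizer_iff.1 (hS hx) d).1 hd
    have hkey : x * d * x⁻¹ * d⁻¹ ∈ F := by
      have h2 := Subgroup.mul_mem_iff_of_index_two (H := F.subgroupOf D) h1
        (a := ⟨x * d * x⁻¹, hconj d hd⟩) (b := ⟨d⁻¹, D.inv_mem hd⟩)
      rw [Subgroup.mem_subgroupOf, Subgroup.mem_subgroupOf, Subgroup.mem_subgroupOf] at h2
      refine h2.2 ?_
      show x * d * x⁻¹ ∈ F ↔ d⁻¹ ∈ F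
      rw [F.inv_mem_iff]
      constructor
      · intro h
        refine ⟨hd, (hcx d).2 ?_⟩
        have h3 : x * d * x⁻¹ * x = x * (x * d * x⁻¹) := (hcx _).1 h.2
        have h4 : x * d = x * (x * d * x⁻¹) := by rw [← h3]; group
        have h5 : d = x * d * x⁻¹ := mul_left_cancel h4
        calc d * x = x * d * x⁻¹ * x := by rw [← h5]
          _ = x * d := by group
      · intro h
        have h3 : d * x = x * d := (hcx _).1 h.2
        rw [← h3]
        simpa using h
    have h3 : x * (x * d * x⁻¹ * d⁻¹) * x⁻¹ = x * d * x⁻¹ * d⁻¹ := by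
      have h4 : (x * d * x⁻¹ * d⁻¹) * x = x * (x * d * x⁻¹ * d⁻¹) := (hcx _).1 hkey.2
      rw [← h4]; group
    have h5 : (x * d * x⁻¹ * d⁻¹) * (x * d * x⁻¹ * d⁻¹) = 1 := h8.inv _ (hFD hkey)
    have h6 : (x * x) * d * (x * x)⁻¹ = d := by
      calc (x * x) * d * (x * x)⁻¹ = (x * (x * d * x⁻¹ * d⁻¹) * x⁻¹) * (x * d * x⁻¹ * d⁻¹) * d := by group
        _ = d := by rw [h3, h5, one_mul]
    calc d * (x * x) = (x * x) * d * (x * x)⁻¹ * (x * x) := by rw [h6]
      _ = x * x * d := by group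

/-- The involution fixed by an element of order three. -/
theorem exists_three (h8 : E8 D) (hS : S ≤ Subgroup.normalizer (D : Set G))
    (hCS : Subgroup.centralizer (D : Set G) ≤ S)
    (hodd : ¬ 2 ∣ (Subgroup.centralizer (D : Set G)).relIndex S)
    (h3 : 3 ∣ (Subgroup.centralizer (D : Set G)).relIndex S) :
    ∃ u ∈ D, u ≠ 1 ∧
      (Subgroup.centralizer (D : Set G)).relIndex (S ⊓ Subgroup.centralizer ({u} : Set G)) = 3 ∧
      ∀ w ∈ D, (∀ t ∈ S, t * u * t⁻¹ = u → t * w * t⁻¹ = w) → w = 1 ∨ w = u := by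
  classical
  have hn := normal_subgroupOf hS
  have hp3 : Fact (Nat.Prime 3) := ⟨Nat.prime_three⟩
  set C := Subgroup.centralizer (D : Set G) with hC
  -- the element of order three
  obtain ⟨q, hq⟩ := exists_prime_orderOf_dvd_card' 3 (G := S ⧸ C.subgroupOf S) h3
  obtain ⟨⟨t, ht⟩, rfl⟩ := QuotientGroup.mk_surjective q
  have ht3 : t ^ 3 ∈ C := by
    have h1 := pow_orderOf_eq_one ((⟨t, ht⟩ : S) : S ⧸ C.subgroupOf S)
    rw [hq, ← QuotientGroup.mk_pow, QuotientGroup.eq_one_iff, Subgroup.mem_subgroupOf] at h1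
    exact h1
  have htC : t ∉ C := by
    intro h
    have h1 : ((⟨t, ht⟩ : S) : S ⧸ C.subgroupOf S) = 1 := by
      rw [QuotientGroup.eq_one_iff, Subgroup.mem_subgroupOf]
      exact h
    rw [h1, orderOf_one] at hq
    omega
  have hcx : ∀ y, y ∈ Subgroup.centralizer ({t} : Set G) ↔ y * t = t * y := fun y =>
    Subgroup.mem_centralizer_singleton_iff
  set F : Subgroup G := D ⊓ Subgroup.centralizer ({t} : Set G) with hF
  have hFD : F ≤ D := inf_le_left
  have hc := card_mul_relIndex hFD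
  rw [h8.card] at hc
  have hconj : ∀ d ∈ D, t * d * t⁻¹ ∈ D := fun d hd => (Subgroup.mem_normalizer_iff.1 (hS ht) d).1 hd
  have hconj' : ∀ d ∈ D, t⁻¹ * d * t ∈ D := fun d hd => (Subgroup.mem_normalizer_iff''.1 (hS ht) d).1 hd
  have hne8 : Nat.card F ≠ 8 := by
    intro h
    have h1 : F = D := Subgroup.eq_of_le_of_card_ge hFD (by rw [h, h8.card])
    apply htC
    rw [hC, Subgroup.mem_centralizer_iff]
    intro d hd
    have h2 : d ∈ F := by rw [h1]; exact hd
    exact (hcx d).1 h2.2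
  have hF2 : Nat.card F = 2 := by
    let σ : Function.End D := fun d => ⟨t * d * t⁻¹, hconj d d.2⟩
    have hσ : ∀ d : D, ((σ d : D) : G) = t * d * t⁻¹ := fun d => rfl
    have hσ3 : σ ^ 3 ^ 1 = 1 := by
      funext d
      apply Subtype.ext
      have h1 := Subgroup.mem_centralizer_iff.1 ht3 d d.2
      show t * (t * (t * (d : G) * t⁻¹) * t⁻¹) * t⁻¹ = d
      calc t * (t * (t * (d : G) * t⁻¹) * t⁻¹) * t⁻¹ = (t ^ 3 * d) * (t ^ 3)⁻¹ := by
            rw [pow_succ, pow_two]; group
        _ = (d * t ^ 3) * (t ^ 3)⁻¹ := by rw [h1]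
        _ = d := by group
    have := Fintype.ofFinite D
    have h1 := Equiv.Perm.card_fixedPoints_modEq hσ3
    have h2 : Fintype.card (Function.fixedPoints σ) = Nat.card F := by
      rw [← Nat.card_eq_fintype_card]
      refine Nat.card_congr
        { toFun := fun d => ⟨d.1, d.1.2, (hcx _).2 ?_⟩
          invFun := fun d => ⟨⟨d.1, d.2.1⟩, ?_⟩
          left_inv := fun _ => rfl
          right_inv := fun _ => rfl }
      · have h3 : σ d.1 = d.1 := d.2
        have h4 : t * ((d.1 : D) : G) * t⁻¹ = (d.1 : D) := congrArg Subtype.val h3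
        calc ((d.1 : D) : G) * t = t * ((d.1 : D) : G) * t⁻¹ * t := by rw [h4]
          _ = t * ((d.1 : D) : G) := by group
      · show σ ⟨d.1, d.2.1⟩ = ⟨d.1, d.2.1⟩
        apply Subtype.ext
        rw [hσ]
        have h3 : (d.1 : G) * t = t * d.1 := (hcx _).1 d.2.2
        show t * (d.1 : G) * t⁻¹ = d.1
        rw [← h3]; group
    rw [h2, ← Nat.card_eq_fintype_card, h8.card] at h1
    have h3 : Nat.card F ∣ 8 := Dvd.intro _ hc
    have h4 : Nat.card F ≤ 8 := Nat.le_of_dvd (by norm_num) h3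
    unfold Nat.ModEq at h1
    interval_cases h : Nat.card F <;> omega
  -- `F = {1, u}`
  have hcard1 : 1 < Nat.card F := by omega
  obtain ⟨⟨u, huF⟩, hu1⟩ : ∃ u : F, u ≠ 1 := by
    have := (Finite.one_lt_card_iff_nontrivial (α := F)).1 hcard1
    exact exists_ne 1
  have hu1' : u ≠ 1 := fun h => hu1 (Subtype.ext h)
  have hFu : ∀ w ∈ F, w = 1 ∨ w = u := by
    intro w hw
    by_contra hcon
    push Not at hcon
    have h1 : ({1, u, w} : Finset G).card = 3 := by
      rw [Finset.card_insert_of_notMem, Finset.card_pair (Ne.symm hcon.2)]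
      simp only [Finset.mem_insert, Finset.mem_singleton, not_or]
      exact ⟨Ne.symm hu1', Ne.symm hcon.1⟩
    have h2 : (({1, u, w} : Finset G) : Set G) ⊆ (F : Set G) := by
      intro y hy
      simp only [Finset.coe_insert, Finset.coe_singleton, Set.mem_insert_iff, Set.mem_singleton_iff] at hy
      rcases hy with rfl | rfl | rfl
      · exact F.one_mem
      · exact huF
      · exact hw
    have h3 := Set.ncard_le_ncard h2 (Set.toFinite _)
    rw [Set.ncard_coe_finset, h1] at h3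
    have h4 : (F : Set G).ncard = Nat.card F := rfl
    omega
  have huD : u ∈ D := huF.1
  have htu : u * t = t * u := (hcx u).1 huF.2
  refine ⟨u, huD, hu1', ?_, ?_⟩
  · set K := S ⊓ Subgroup.centralizer ({u} : Set G) with hK
    have hKS : K ≤ S := inf_le_left
    have hCK : C ≤ K := le_inf hCS fun x hx => Subgroup.mem_centralizer_singleton_iff.2
      (Subgroup.mem_centralizer_iff.1 hx u huD).symm
    have hKu : ∀ x ∈ K, x * u = u * x := fun x hx => Subgroup.mem_centralizer_singleton_iff.1 hx.2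
    have htK : t ∈ K := ⟨ht, Subgroup.mem_centralizer_singleton_iff.2 htu.symm⟩
    have hnK : (C.subgroupOf K).Normal := normal_subgroupOf (hKS.trans hS)
    have hoddK : ¬ 2 ∣ C.relIndex K := fun h =>
      hodd (h.trans (Dvd.intro _ (Subgroup.relIndex_mul_relIndex _ _ _ hCK hKS)))
    have h3K : 3 ∣ C.relIndex K := by
      have h1 : ((⟨t, htK⟩ : K) : K ⧸ C.subgroupOf K) ^ 3 = 1 := by
        rw [← QuotientGroup.mk_pow, QuotientGroup.eq_one_iff, Subgroup.mem_subgroupOf]
        exact ht3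
      have h2 : ((⟨t, htK⟩ : K) : K ⧸ C.subgroupOf K) ≠ 1 := by
        intro h
        rw [QuotientGroup.eq_one_iff, Subgroup.mem_subgroupOf] at h
        exact htC h
      have h4 := orderOf_eq_prime h1 h2
      have h5 : orderOf ((⟨t, htK⟩ : K) : K ⧸ C.subgroupOf K) ∣ Nat.card (K ⧸ C.subgroupOf K) :=
        orderOf_dvd_natCard _
      rw [h4] at h5
      exact h5
    -- a moved element
    obtain ⟨v, hvD, hv1, hvu⟩ : ∃ v ∈ D, v ≠ 1 ∧ v ≠ u := by
      by_contra hcon
      push Not at hcon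
      have h1 : D ≤ F := by
        intro d hd
        by_cases h1 : d = 1
        · rw [h1]; exact F.one_mem
        · rw [hcon d hd h1]; exact huF
      have h2 := Subgroup.card_le_of_le h1
      rw [h8.card] at h2
      omega
    have hle : C.relIndex K ≤ 8 := by
      have hconjK : ∀ x ∈ K, x * v * x⁻¹ ∈ D := fun x hx =>
        (Subgroup.mem_normalizer_iff.1 (hS (hKS hx)) v).1 hvD
      let φ : K → D := fun x => ⟨x * v * (x : G)⁻¹, hconjK x x.2⟩
      have hφ : ∀ x y : K, φ x = φ y ↔ x⁻¹ * y ∈ C.subgroupOf K := by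
        intro x y
        rw [Subgroup.mem_subgroupOf]
        constructor
        · intro h
          have h1 : (x : G) * v * (x : G)⁻¹ = y * v * (y : G)⁻¹ := congrArg Subtype.val h
          have h2 : ((x⁻¹ * y : K) : G) * v = v * ((x⁻¹ * y : K) : G) := by
            push_cast
            calc (x : G)⁻¹ * y * v = (x : G)⁻¹ * (y * v * (y : G)⁻¹) * y := by group
              _ = (x : G)⁻¹ * (x * v * (x : G)⁻¹) * y := by rw [h1]
              _ = v * ((x : G)⁻¹ * y) := by group
          exact mem_of_two h8 (hKS.trans hS) hoddK (x⁻¹ * y).2 huD hu1' hvD hv1 hvu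
            (hKu _ (x⁻¹ * y).2) h2
        · intro h
          apply Subtype.ext
          show (x : G) * v * (x : G)⁻¹ = y * v * (y : G)⁻¹
          have h1 : v * ((x : G)⁻¹ * y) = (x : G)⁻¹ * y * v := by
            have := Subgroup.mem_centralizer_iff.1 h v hvD
            simpa using this
          calc (x : G) * v * (x : G)⁻¹ = x * (v * ((x : G)⁻¹ * y)) * (y : G)⁻¹ := by group
            _ = x * ((x : G)⁻¹ * y * v) * (y : G)⁻¹ := by rw [h1]
            _ = y * v * (y : G)⁻¹ := by group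
      have h1 : Nat.card (K ⧸ C.subgroupOf K) ≤ Nat.card D := by
        refine Nat.card_le_card_of_injective (fun x => Quotient.liftOn' x φ fun a b hab => ?_) ?_
        · rw [hφ]
          exact QuotientGroup.leftRel_apply.1 hab
        · intro x y
          obtain ⟨x, rfl⟩ := QuotientGroup.mk_surjective x
          obtain ⟨y, rfl⟩ := QuotientGroup.mk_surjective y
          intro h
          exact QuotientGroup.eq.2 ((hφ x y).1 h)
      rw [h8.card] at h1
      exact h1
    have hpos : C.relIndex K ≠ 0 := by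
      intro h
      apply hoddK
      rw [h]
      exact dvd_zero _
    generalize C.relIndex K = e at *
    omega
  · intro w hw h
    have h1 : t * u * t⁻¹ = u := by rw [← htu]; group
    have h2 := h t ht h1
    refine hFu w ⟨hw, (hcx w).2 ?_⟩
    calc w * t = t * w * t⁻¹ * t := by rw [h2]
      _ = t * w := by group

end grp

section mat

/-- A symmetric integral matrix `A` of size four with odd entries, `A² = 4 A` and trace 12. -/
theorem signs (A : Fin 4 → Fin 4 → ℤ) (hs : ∀ i j, A i j = A j i)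
    (hA : ∀ i j, ∑ k, A i k * A k j = 4 * A i j) (ht : ∑ i, A i i = 12) (ho : ∀ i j, ¬ 2 ∣ A i j) :
    ∃ ε : Fin 4 → ℤ, (∀ i, ε i = 1 ∨ ε i = -1) ∧
      ∀ i j, A i j = 4 * (if i = j then 1 else 0) - ε i * ε j := by
  obtain ⟨q, hq⟩ : ∃ q : Fin 4 → Fin 4 → ℤ, ∀ i j, q i j = 4 * (if i = j then 1 else 0) - A i j := ⟨_, fun _ _ => rfl⟩
  have hqs : ∀ i j, q i j = q j i := by
    intro i j
    rw [hq, hq, hs i j]
    simp only [eq_comm]
  have hqq : ∀ i j, ∑ k, q i k * q k j = 4 * q i j := by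
    intro i j
    have h1 := hA i j
    simp only [hq]
    rw [Fin.sum_univ_four] at h1 ⊢
    fin_cases i <;> fin_cases j <;> simp at h1 ⊢ <;> linarith
  have hqo : ∀ i j, ¬ 2 ∣ q i j := by
    intro i j h
    apply ho i j
    rw [hq] at h
    have h1 : A i j = 4 * (if i = j then 1 else 0) - (4 * (if i = j then 1 else 0) - A i j) := by ring
    rw [h1]
    exact dvd_sub (Dvd.intro (2 * (if i = j then 1 else 0)) (by ring)) h
  have hsq : ∀ n : ℤ, ¬ 2 ∣ n → 1 ≤ n * n := by
    intro n hn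
    have : n ≠ 0 := by rintro rfl; exact hn (dvd_zero _)
    have := Int.one_le_abs this
    nlinarith [abs_mul_abs_self n]
  have hdiag : ∀ i, 1 ≤ q i i := by
    intro i
    have h1 := hqq i i
    have h2 : ∀ k, 1 ≤ q i k * q k i := fun k => by rw [← hqs i k]; exact hsq _ (hqo i k)
    rw [Fin.sum_univ_four] at h1
    have := h2 0; have := h2 1; have := h2 2; have := h2 3
    linarith
  have htr : ∑ i, q i i = 4 := by
    rw [Fin.sum_univ_four] at ht ⊢
    simp only [hq, if_true]
    linarith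
  have hone : ∀ i, q i i = 1 := by
    intro i
    rw [Fin.sum_univ_four] at htr
    have := hdiag 0; have := hdiag 1; have := hdiag 2; have := hdiag 3
    fin_cases i <;> simp <;> linarith
  have hent : ∀ i j, q i j * q i j = 1 := by
    intro i j
    have h1 := hqq i i
    rw [hone i, Fin.sum_univ_four] at h1
    have h2 : ∀ k, q k i = q i k := fun k => hqs k i
    rw [h2 0, h2 1, h2 2, h2 3] at h1
    have := hsq _ (hqo i 0); have := hsq _ (hqo i 1); have := hsq _ (hqo i 2); have := hsq _ (hqo i 3)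
    fin_cases j <;> simp <;> linarith
  have hpm : ∀ i j, q i j = 1 ∨ q i j = -1 := fun i j => mul_self_eq_one_iff.1 (hent i j)
  have hmul : ∀ i j k, q i k * q k j = q i j := by
    intro i j k
    have h1 := hqq i j
    rw [Fin.sum_univ_four] at h1
    have h2 : ∀ k, q i k * q k j = 1 ∨ q i k * q k j = -1 := by
      intro k
      rcases hpm i k with h | h <;> rcases hpm k j with h' | h' <;> rw [h, h'] <;> norm_num
    have := h2 0; have := h2 1; have := h2 2; have := h2 3; have := hpm i j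
    fin_cases k <;> simp <;> omega
  refine ⟨fun i => q i 0, fun i => hpm i 0, fun i j => ?_⟩
  have h1 := hmul i j 0
  rw [hqs 0 j] at h1
  show A i j = _ - q i 0 * q j 0
  rw [h1, hq]
  ring

end mat


section loc

open Cfsg.Agent.H651 Cfsg.Agent.H649 Cfsg.Agent.Characters
open Cfsg.Agent.Blocks.Blau (regPart regPart_of_not_dvd)
open Cfsg.Agent.H652.DoubleCount Cfsg.Agent.H645.FusCount Cfsg.Agent.H650
open Cfsg.Agent.H613.RegGram Cfsg.Agent.H644.CentralQuot

universe u

variable {H : Type u} [Group H] [Fintype H] {M : Ideal AlgInt} [M.IsPrime]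

/-- The characters with `U` in the kernel. -/
theorem quot_data [Fact (Nat.Prime 2)] (hM : IsPModular 2 M) {f : Set (IrrCharacter H)} (hf : IsPBlock M f)
    {D : Subgroup H} (hD : IsDefectGroup 2 M f D) (h8 : E8 D) {U : Subgroup H} [U.Normal]
    (hUc : U ≤ Subgroup.center H) (hUD : U ≤ D) (hU2 : Nat.card U = 2) :
    Nat.card (defl U f) = 4 ∧ IsPBlock M (defl U f) ∧ blockDefect 2 (defl U f) = 2 ∧ blockDefect 2 f = 3 := by
  have h3 : (2 : ℕ) ^ blockDefect 2 f = 2 ^ 3 := by
    rw [← Cfsg.Agent.S0908.result 2 M hM f hf D hD, h8.card]; norm_num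
  have hdf : blockDefect 2 f = 3 := Nat.pow_right_injective (le_refl 2) h3
  have hd := blockDefect_defl hM hUc (t := 1) (by rw [hU2, pow_one]) hf
  have hUp : IsPGroup 2 U := IsPGroup.of_card (n := 1) (by rw [hU2, pow_one])
  have := Fintype.ofFinite (H ⧸ U)
  have h3 := (Cfsg.Agent.H658.isDefectGroup_defl (U := U) hM hUc hUp hf hD).2
  have hb := isPBlock_defl (U := U) hM hUc hUp hf
  obtain ⟨e, he⟩ := exists_pair_of_isDefectGroup hM hb h3
  have hind := (isBrauerPairOf_iff_isInducedBlock hM hb (Cfsg.Agent.H641.isPGroup_of_isDefectGroup h3) he.1.2).1 he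
  have hc4 : Nat.card (D.map (QuotientGroup.mk' U)) = 4 := by
    rw [← Subgroup.relIndex_ker, QuotientGroup.ker_mk']
    have h5 := (U.subgroupOf D).card_mul_index
    rw [Nat.card_congr (Subgroup.subgroupOfEquivOfLe hUD).toEquiv, hU2, h8.card] at h5
    change 2 * U.relIndex D = 8 at h5
    omega
  have hV : IsKleinFour (D.map (QuotientGroup.mk' U)) := by
    refine ⟨hc4, ?_⟩
    have h5 : Monoid.exponent (D.map (QuotientGroup.mk' U)) ∣ 2 := by
      rw [Monoid.exponent_dvd_iff_forall_pow_eq_one]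
      rintro ⟨_, d, hd, rfl⟩
      refine Subtype.ext ?_
      show (QuotientGroup.mk' U d) ^ 2 = 1
      rw [← map_pow, pow_two, h8.inv d hd, map_one]
    rcases (Nat.dvd_prime Nat.prime_two).1 h5 with h6 | h6
    · rw [Monoid.exp_eq_one_iff] at h6
      have := Finite.card_le_one_iff_subsingleton.2 h6
      omega
    · exact h6
  have h5 := Cfsg.Agent.S4637.result M hM _ hb _ h3 hV e hind (stab (⟨_, e⟩ : BrauerPairIdx (H ⧸ U)))
    (fun g => by rw [mem_stab]; exact conjIdx_eq_iff he.1.2 g) _ rfl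
  exact ⟨h5.2.1, hb, by omega, hdf⟩

/-- The characters of the quotient, with signs. -/
theorem quot_signs [Fact (Nat.Prime 2)] (hM : IsPModular 2 M) {f : Set (IrrCharacter H)} (hf : IsPBlock M f)
    {U : Subgroup H} [U.Normal] (hUc : U ≤ Subgroup.center H) (hU2 : Nat.card U = 2)
    (h4 : Nat.card (defl U f) = 4) (hb : IsPBlock M (defl U f)) (hd2 : blockDefect 2 (defl U f) = 2)
    (hl : blockRank 2 f = 3) (h0 : ∀ θ ∈ f, blockHeight 2 f (θ : H → ℂ) = 0) :
    ∃ (ψ : Fin 4 → IrrCharacter H) (ε : Fin 4 → ℤ), (∀ i, ψ i ∈ f) ∧ (∀ i, ε i = 1 ∨ ε i = -1) ∧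
      (∀ s : H, ¬ 2 ∣ orderOf s → ∑ i, (ε i : ℂ) * (ψ i : H → ℂ) s = 0) ∧
      (∀ (i j : Fin 4), 8 * rg 2 (ψ i : H → ℂ) (ψ j : H → ℂ) =
        ((4 * (if i = j then 1 else 0) - ε i * ε j : ℤ) : ℂ)) ∧
      ∀ θ ∈ f, ∃ m : Fin 4 → ℤ, ∀ s : H, ¬ 2 ∣ orderOf s →
        (θ : H → ℂ) s = ∑ i, (m i : ℂ) * (ψ i : H → ℂ) s := by
  classical
  have hUp : IsPGroup 2 U := IsPGroup.of_card (n := 1) (by rw [hU2, pow_one])
  have := Fintype.ofFinite (H ⧸ U)
  have := Core.finite_irr (G := H ⧸ U)
  have : Fintype (defl U f) := Fintype.ofFinite _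
  have h4' : Fintype.card (defl U f) = 4 := by rw [← Nat.card_eq_fintype_card, h4]
  let e : Fin 4 ≃ defl U f := (Fintype.equivFinOfCardEq h4').symm
  -- the heights
  have hh : ∀ θ : defl U f, blockHeight 2 (defl U f) ((θ : IrrCharacter (H ⧸ U)) : H ⧸ U → ℂ) = 0 := by
    intro θ
    rw [← Cfsg.Agent.H644.SmallMin.blockHeight_infl hM hUc (t := 1) (by rw [hU2, pow_one]) hf θ.2]
    exact h0 _ (mem_defl.1 θ.2)
  -- the matrix
  choose A hA using fun i j : Fin 4 => exists_int_rg hM (e i).2 (e j : IrrCharacter (H ⧸ U))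
  rw [hd2] at hA
  have hA' : ∀ i j, (A i j : ℂ) = 4 * rg 2 ((e i : IrrCharacter (H ⧸ U)) : H ⧸ U → ℂ)
      ((e j : IrrCharacter (H ⧸ U)) : H ⧸ U → ℂ) := by
    intro i j
    rw [← hA i j]
    push_cast
    norm_num
  have hAs : ∀ i j, A i j = A j i := by
    intro i j
    have h1 : (A i j : ℂ) = (A j i : ℂ) := by
      rw [hA', hA', rg_comm 2 (Core.isIrr_isCharacter (e i).1.2) (Core.isIrr_isCharacter (e j).1.2)]
    exact_mod_cast h1
  have hAA : ∀ i j, ∑ k, A i k * A k j = 4 * A i j := by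
    intro i j
    have h1 := sum_rg_mul_rg (ψ := (e j : IrrCharacter (H ⧸ U))) hM hb (e i).2
    rw [← Equiv.sum_comp e] at h1
    have h2 : ((∑ k, A i k * A k j : ℤ) : ℂ) = ((4 * A i j : ℤ) : ℂ) := by
      push_cast
      rw [hA' i j, ← h1, Finset.mul_sum, Finset.mul_sum]
      refine Finset.sum_congr rfl fun k _ => ?_
      rw [hA', hA']
      ring
    exact_mod_cast h2
  have hAt : ∑ i, A i i = 12 := by
    have h1 := sum_rg_self hM hb
    rw [blockRank_defl hM hUc hUp hf, hl, ← Equiv.sum_comp e] at h1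
    have h2 : ((∑ i, A i i : ℤ) : ℂ) = ((12 : ℤ) : ℂ) := by
      push_cast
      rw [Finset.sum_congr rfl fun i _ => hA' i i, ← Finset.mul_sum, h1]
      norm_num
    exact_mod_cast h2
  have hAo : ∀ i j, ¬ 2 ∣ A i j := by
    intro i j
    obtain ⟨n, hn, -, hn2⟩ := Cfsg.Agent.H648.HeightForm.exists_int_height hM hb (e i).2 (hh (e i)) (e j).2
    rw [hh (e j), zero_add, pow_one] at hn2
    rw [pRegularPart_eq_regPart, ← rg_eq_classInner, hd2] at hn
    have h1 : (A i j : ℂ) = n := by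
      rw [← hn, hA']
      norm_num
    have h2 : A i j = n := by exact_mod_cast h1
    rw [h2]
    exact_mod_cast hn2
  obtain ⟨ε, hε, hAε⟩ := signs A hAs hAA hAt hAo
  refine ⟨fun i => infl U (e i), ε, fun i => (e i).2, hε, ?_, ?_, ?_⟩
  · -- the relation
    intro s hs
    have hs' : ¬ 2 ∣ orderOf (QuotientGroup.mk s : H ⧸ U) := not_dvd_orderOf_mk hs
    have h1 := congrFun (regPart_eq_sum_regPart hM hb (e 0).2) (QuotientGroup.mk s : H ⧸ U)
    rw [Finset.sum_apply, ← Equiv.sum_comp e, regPart_of_not_dvd hs'] at h1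
    have h2 : ∀ j, (rg 2 ((e 0 : IrrCharacter (H ⧸ U)) : H ⧸ U → ℂ)
        ((e j : IrrCharacter (H ⧸ U)) : H ⧸ U → ℂ) •
          regPart 2 ((e j : IrrCharacter (H ⧸ U)) : H ⧸ U → ℂ)) (QuotientGroup.mk s : H ⧸ U) =
        ((if (0 : Fin 4) = j then 1 else 0) - (ε 0 : ℂ) * ε j / 4) * (infl U (e j) : H → ℂ) s := by
      intro j
      rw [Pi.smul_apply, smul_eq_mul, regPart_of_not_dvd hs', infl_apply]
      congr 1
      have h3 := hA' 0 j
      rw [hAε 0 j] at h3
      push_cast at h3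
      have h4 : rg 2 ((e 0 : IrrCharacter (H ⧸ U)) : H ⧸ U → ℂ)
        ((e j : IrrCharacter (H ⧸ U)) : H ⧸ U → ℂ) = (4 * (if (0 : Fin 4) = j then 1 else 0) -
          (ε 0 : ℂ) * ε j) / 4 := by
        rw [h3]; ring
      rw [h4]
      ring
    rw [Finset.sum_congr rfl fun j _ => h2 j] at h1
    simp only [sub_mul, Finset.sum_sub_distrib] at h1
    have h5 : ∑ j : Fin 4, (if (0 : Fin 4) = j then (1 : ℂ) else 0) * (infl U (e j) : H → ℂ) s =
        (infl U (e 0) : H → ℂ) s := by
      rw [Finset.sum_eq_single 0]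
      · rw [if_pos rfl, one_mul]
      · intro j _ hj
        rw [if_neg (Ne.symm hj), zero_mul]
      · intro h; exact absurd (Finset.mem_univ _) h
    rw [h5, ← infl_apply] at h1
    have h6 : ∑ j : Fin 4, (ε 0 : ℂ) * ε j / 4 * (infl U (e j) : H → ℂ) s =
        (ε 0 : ℂ) / 4 * ∑ j, (ε j : ℂ) * (infl U (e j) : H → ℂ) s := by
      rw [Finset.mul_sum]
      refine Finset.sum_congr rfl fun j _ => ?_
      ring
    rw [h6] at h1
    have h7 : (ε 0 : ℂ) / 4 * ∑ j, (ε j : ℂ) * (infl U (e j) : H → ℂ) s = 0 := by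
      linear_combination h1
    rcases mul_eq_zero.1 h7 with h8 | h8
    · exfalso
      rcases hε 0 with h9 | h9 <;> rw [h9] at h8 <;> norm_num at h8
    · exact h8
  · intro i j
    have h1 := rg_infl hUc hUp (e i : IrrCharacter (H ⧸ U)) (e j : IrrCharacter (H ⧸ U))
    rw [hU2] at h1
    have h2 := hA' i j
    rw [h1, hAε i j] at h2
    rw [h2]
    push_cast
    ring
  · intro θ hθ
    obtain ⟨m, hm⟩ := Cfsg.Agent.H658.exists_int_defl hM hUc hUp hf hθ
    refine ⟨fun i => m (e i), fun s hs => ?_⟩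
    rw [hm s hs, ← Equiv.sum_comp e]

/-- The local data in the centralizer of the fixed involution. -/
theorem local_data [Fact (Nat.Prime 2)] (hM : IsPModular 2 M) {f : Set (IrrCharacter H)} {a : BrauerPairIdx H}
    (hmax : IsMaximalBrauerPair 2 M f a.1 a.2) (h8 : E8 a.1)
    (hidx : (Subgroup.centralizer (a.1 : Set H)).relIndex (stab a) = 3) {u : H} (hua : u ∈ a.1) (hu1 : u ≠ 1)
    (huc : ∀ g : H, u * g = g * u)
    (hfix : ∀ w ∈ a.1, (∀ t ∈ stab a, t * w * t⁻¹ = w) → w = 1 ∨ w = u) :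
    blockDefect 2 f = 3 ∧ (∀ θ ∈ f, blockHeight 2 f (θ : H → ℂ) = 0) ∧
      ∃ (ψ : Fin 4 → IrrCharacter H) (ε : Fin 4 → ℤ), (∀ i, ψ i ∈ f) ∧ (∀ i, ε i = 1 ∨ ε i = -1) ∧
      (∀ s : H, ¬ 2 ∣ orderOf s → ∑ i, (ε i : ℂ) * (ψ i : H → ℂ) s = 0) ∧
      (∀ (i j : Fin 4), 8 * rg 2 (ψ i : H → ℂ) (ψ j : H → ℂ) =
        ((4 * (if i = j then 1 else 0) - ε i * ε j : ℤ) : ℂ)) ∧
      ∀ θ ∈ f, ∃ m : Fin 4 → ℤ, ∀ s : H, ¬ 2 ∣ orderOf s →
        (θ : H → ℂ) s = ∑ i, (m i : ℂ) * (ψ i : H → ℂ) s := by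
  classical
  have hf : IsPBlock M f := hmax.1.2.1
  have hD := Cfsg.Agent.H644.isDefectGroup_of_isMaximalBrauerPair hM hmax
  have hab := Cfsg.Agent.H608.KKL.comm_of_inv h8.inv
  -- the central subgroup
  have huu : u * u = 1 := h8.inv u hua
  have ho : orderOf u = 2 := orderOf_eq_prime (by rw [pow_two, huu]) hu1
  obtain ⟨U, hU⟩ : ∃ U : Subgroup H, U = Subgroup.zpowers u := ⟨_, rfl⟩
  have hU2 : Nat.card U = 2 := by rw [hU, Nat.card_zpowers, ho]
  have hUc : U ≤ Subgroup.center H := by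
    rw [hU, Subgroup.zpowers_le, Subgroup.mem_center_iff]
    exact fun g => (huc g).symm
  have hUD : U ≤ a.1 := by rw [hU, Subgroup.zpowers_le]; exact hua
  have hUn : U.Normal := ⟨fun n hn g => by
    have h1 := Subgroup.mem_center_iff.1 (hUc hn) g
    rw [h1, mul_inv_cancel_right]
    exact hn⟩
  have hUp : IsPGroup 2 U := IsPGroup.of_card (n := 1) (by rw [hU2, pow_one])
  obtain ⟨h4, hb, hd2, hd3⟩ := quot_data hM hf hD h8 hUc hUD hU2
  -- the fixed points
  have hW : Nat.card {w : H // w ∈ a.1 ∧ ∀ t ∈ stab a, t * w * t⁻¹ = w} = 2 := by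
    rw [← hU2]
    refine Nat.card_congr
      { toFun := fun w => ⟨w.1, ?_⟩
        invFun := fun w => ⟨w.1, hUD w.2, fun t _ => ?_⟩
        left_inv := fun _ => rfl
        right_inv := fun _ => rfl }
    · rcases hfix w.1 w.2.1 w.2.2 with h | h
      · rw [h]; exact U.one_mem
      · rw [h, hU]; exact Subgroup.mem_zpowers u
    · rw [Subgroup.mem_center_iff.1 (hUc w.2) t, mul_inv_cancel_right]
  have hk := Cfsg.Agent.H617.AbelRank.card_of_prime hM hmax hab Nat.prime_three hidx
  rw [hW, h8.card] at hk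
  -- a moved element
  obtain ⟨v, hv, hvn⟩ : ∃ v ∈ a.1, ¬ ∀ t ∈ stab a, t * v * t⁻¹ = v := by
    by_contra hno
    push Not at hno
    have h2 : Nat.card {w : H // w ∈ a.1 ∧ ∀ t ∈ stab a, t * w * t⁻¹ = w} = Nat.card a.1 := Nat.card_congr
      { toFun := fun w => ⟨w.1, w.2.1⟩
        invFun := fun w => ⟨w.1, w.2, hno w.1 w.2⟩
        left_inv := fun _ => rfl
        right_inv := fun _ => rfl }
    rw [hW, h8.card] at h2
    omega
  have hrank : blockRank 2 (bP 2 M a v).2 = 1 :=
    Cfsg.Agent.H617.AbelRank.rank_one_of_prime hM hmax hab Nat.prime_three hidx hv hvn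
  have hbound := Cfsg.Agent.H608.KKL.bound hM hmax hab hv (by rw [hrank]; norm_num)
  -- the rank
  have hl := Cfsg.Agent.H608.KKL.rank_quot hM hf hD hUc hUD (by rw [h8.card, hU2]) fun d hd => by
    rw [h8.inv d hd]; exact U.one_mem
  have hl3 : blockRank 2 f = 3 := by
    rcases hl with hl | hl
    · exfalso
      rw [hl] at hk
      have hk4 : Nat.card f = 4 := by omega
      have := Fintype.ofFinite (H ⧸ U)
      have := Core.finite_irr (G := H ⧸ U)
      have := Core.finite_irr (G := H)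
      have : Fintype (defl U f) := Fintype.ofFinite _
      have : Fintype f := Fintype.ofFinite _
      let φ : defl U f → f := fun θ => ⟨infl U θ, mem_defl.1 θ.2⟩
      have hφi : Function.Injective φ := fun x y hxy =>
        Subtype.ext (infl_injective U (congrArg Subtype.val hxy))
      have hφ : Function.Bijective φ := by
        rw [Fintype.bijective_iff_injective_and_card]
        exact ⟨hφi, by rw [← Nat.card_eq_fintype_card, ← Nat.card_eq_fintype_card, h4, hk4]⟩
      have h1 := sum_rg_self hM hf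
      have h2 := sum_rg_self hM hb
      rw [blockRank_defl hM hUc hUp hf, hl] at h2
      rw [hl, ← hφ.sum_comp] at h1
      have h3 : ∑ θ : defl U f, rg 2 ((θ : IrrCharacter (H ⧸ U)) : H ⧸ U → ℂ)
          ((θ : IrrCharacter (H ⧸ U)) : H ⧸ U → ℂ) =
          2 * ∑ θ : defl U f, rg 2 ((φ θ : IrrCharacter H) : H → ℂ) ((φ θ : IrrCharacter H) : H → ℂ) := by
        rw [Finset.mul_sum]
        refine Finset.sum_congr rfl fun θ _ => ?_
        have h5 := rg_infl hUc hUp (θ : IrrCharacter (H ⧸ U)) (θ : IrrCharacter (H ⧸ U))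
        rw [hU2] at h5
        exact_mod_cast h5
      rw [h2, h1] at h3
      norm_num at h3
    · exact hl
  have h0 : ∀ θ ∈ f, blockHeight 2 f (θ : H → ℂ) = 0 := by
    refine hbound.2 ?_
    rw [hd3]
    omega
  exact ⟨hd3, h0, quot_signs hM hf hUc hU2 h4 hb hd2 hl3 h0⟩

end loc

end Cfsg.Agent.H611.KKL.LocAux

namespace Cfsg.Agent.H611.KKL

open Cfsg.Agent.H651 Cfsg.Agent.H649 Cfsg.Agent.Characters
open Cfsg.Agent.H652.DoubleCount Cfsg.Agent.H645.FusCount Cfsg.Agent.H650
open Cfsg.Agent.H613.RegGram Cfsg.Agent.H613.KKL Cfsg.Agent.H850.KKL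
open Cfsg.Agent.H611.KKL.LocAux

universe u

variable {G : Type u} [Group G] [Finite G]

/-- **The local data.** -/
theorem exists_loc {M : Ideal AlgInt} (hM : IsPModular 2 M) {B : Set (IrrCharacter G)} (hB : IsPBlock M B)
    {D : Subgroup G} (hD : IsDefectGroup 2 M B D) (h8 : E8 D)
    (c : Set (IrrCharacter (Subgroup.centralizer (D : Set G))))
    (hc : IsInducedBlock M (Subgroup.centralizer (D : Set G)) c B) (T : Subgroup G)
    (hT : ∀ g, g ∈ T ↔ (g ∈ Subgroup.normalizer (D : Set G) ∧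
      StabilizesBlock (Subgroup.centralizer (D : Set G)) c g))
    (h3 : 3 ∣ (Subgroup.centralizer (D : Set G)).relIndex T) :
    ∃ (u : G) (H : Subgroup G) (f : Set (IrrCharacter H)) (psi : Fin 4 → IrrCharacter H) (eps : Fin 4 → ℤ),
      Loc M B u H f psi eps := by
  classical
  have hp2 : Fact (Nat.Prime 2) := ⟨Nat.prime_two⟩
  have hMp := Cfsg.Agent.Blocks.Local.isPrime_of_isPModular hM
  have := Fintype.ofFinite G
  have hmax0 := Cfsg.Agent.H641.isMaximal_of_induced hM hD hc
  obtain ⟨a, ha⟩ : ∃ a : BrauerPairIdx G, a = ⟨D, c⟩ := ⟨_, rfl⟩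
  have hmax : IsMaximalBrauerPair 2 M B a.1 a.2 := by rw [ha]; exact hmax0
  have hTa : T = stab a := by
    ext g
    rw [hT, mem_stab, ha]
    exact (conjIdx_eq_iff hmax0.1.1.2 g).symm
  have hDa : a.1 = D := by rw [ha]
  rw [hTa, ← hDa] at h3
  rw [← hDa] at h8 hD
  clear hT hTa hc hmax0 ha hDa
  have hab := Cfsg.Agent.H608.KKL.comm_of_inv h8.inv
  obtain ⟨u, hu, hu1, hidx, hfix⟩ := exists_three h8 (Cfsg.Agent.H645.TraceForm.stab_le_normalizer hM hmax hab)
    (Cfsg.Agent.H617.AbelRank.centralizer_le_stab hM hmax hab)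
    (Cfsg.Agent.H645.TraceForm.not_dvd_relIndex_stab hM hmax hab) h3
  have huu := h8.inv u hu
  obtain ⟨b, a', hind, -, ha', hmax', hab', hstab⟩ := Cfsg.Agent.H617.AbelRank.exists_local hM hmax hab hu
  obtain ⟨H, hH⟩ : ∃ H, H = Subgroup.centralizer ({u} : Set G) := ⟨_, rfl⟩
  rw [← hH] at hidx
  revert b a'
  rw [← hH]
  intro b a' hind ha' hmax' hab' hstab
  have iH := Fintype.ofFinite H
  have haH : a.1 ≤ H := by
    intro x hx
    rw [hH, Subgroup.mem_centralizer_singleton_iff]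
    exact hab x hx u hu
  obtain ⟨u', hu'⟩ : ∃ u' : H, (u' : G) = u := ⟨⟨u, haH hu⟩, rfl⟩
  have hu'a : u' ∈ a'.1 := by
    rw [ha', Subgroup.mem_subgroupOf, hu']
    exact hu
  have hu'1 : u' ≠ 1 := by
    rintro rfl
    exact hu1 hu'.symm
  have hu'c : ∀ g : H, u' * g = g * u' := by
    intro g
    apply Subtype.ext
    change (u' : G) * g = g * u'
    rw [hu']
    have h1 : (g : G) ∈ Subgroup.centralizer ({u} : Set G) := hH.le g.2
    exact (Subgroup.mem_centralizer_singleton_iff.1 h1).symm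
  have h8' : E8 a'.1 := by
    refine ⟨?_, fun x hx => ?_⟩
    · rw [ha', ← h8.card]
      exact Nat.card_congr (Subgroup.subgroupOfEquivOfLe haH).toEquiv
    · rw [ha', Subgroup.mem_subgroupOf] at hx
      exact Subtype.ext (h8.inv x hx)
  have hC' : Subgroup.centralizer (a'.1 : Set H) =
      (Subgroup.centralizer (a.1 : Set G)).subgroupOf H := by
    ext x
    rw [Subgroup.mem_subgroupOf, Subgroup.mem_centralizer_iff, Subgroup.mem_centralizer_iff]
    constructor
    · intro h y hy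
      have h1 : (⟨y, haH hy⟩ : H) ∈ a'.1 := by
        rw [ha', Subgroup.mem_subgroupOf]
        exact hy
      exact congrArg Subtype.val (h _ h1)
    · intro h y hy
      rw [SetLike.mem_coe, ha', Subgroup.mem_subgroupOf] at hy
      exact Subtype.ext (h y hy)
  have hS' : stab a' = (stab a ⊓ H).subgroupOf H := by
    ext x
    rw [hstab, Subgroup.mem_subgroupOf, Subgroup.mem_inf]
    exact ⟨fun h => ⟨h, x.2⟩, fun h => h.1⟩
  have hidx' : (Subgroup.centralizer (a'.1 : Set H)).relIndex (stab a') = 3 := by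
    rw [hC', hS', Subgroup.relIndex_subgroupOf inf_le_right, hidx]
  have hfix' : ∀ w ∈ a'.1, (∀ t ∈ stab a', t * w * t⁻¹ = w) → w = 1 ∨ w = u' := by
    intro w hw h
    have hw' : (w : G) ∈ a.1 := by
      rw [ha', Subgroup.mem_subgroupOf] at hw
      exact hw
    rcases hfix w hw' (fun t ht htu => by
      have htH : t ∈ H := by
        rw [hH, Subgroup.mem_centralizer_singleton_iff]
        calc t * u = t * u * t⁻¹ * t := by group
          _ = u * t := by rw [htu]
      exact congrArg Subtype.val (h ⟨t, htH⟩ ((hstab _).2 ht))) with h1 | h1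
    · exact Or.inl (Subtype.ext h1)
    · exact Or.inr (Subtype.ext (h1.trans hu'.symm))
  obtain ⟨hdb, h0, ψ, ε, h1, h2, h3, h4, h5⟩ := local_data hM hmax' h8' hidx' hu'a hu'1 hu'c hfix'
  refine ⟨u, H, b, ψ, ε, huu, hu1, hH, hind, ?_, hdb, h0, h1, h2, h3, ?_, h5⟩
  · have h6 : (2 : ℕ) ^ blockDefect 2 B = 2 ^ 3 := by
      rw [← Cfsg.Agent.S0908.result 2 M hM B hB a.1 hD, h8.card]; norm_num
    exact Nat.pow_right_injective (le_refl 2) h6
  · intro inst i j
    have h6 : inst = iH := Subsingleton.elim _ _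
    subst h6
    exact h4 i j

end Cfsg.Agent.H611.KKL
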